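import Groth.Agent.CurveCover.PointBundle
import Groth.Agent.CurveCover.Cover
import Groth.Agent.CurveEmbed.Equiv
import Groth.Agent.H26.InterDiv
import Groth.Agent.PicTangent.Elliptic
import Groth.Agent.SeesawX.Crit

/-!
# The module of a section on the fibres of a family of curves
-/

noncomputable section

set_option autoImplicit false
set_option linter.style.haveILetI false
set_option linter.unusedSectionVars false
set_option backward.isDefEq.respectTransparency false
set_option backward.isDefEq.respectTransparency.types false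
set_option maxHeartbeats 1000000
set_option synthInstance.maxHeartbeats 400000

universe u

open CategoryTheory CategoryTheory.Limits AlgebraicGeometry TopologicalSpace Opposite

namespace Groth.Agent.DegOneSection

open Groth.Agent

attribute [local instance] CurveBC.overBar Curv2.resAlgebra

section Field

variable (k : Type u) [Field k] (X : Scheme.{u}) [X.Over (Spec (CommRingCat.of k))]
  [IsProper (X ↘ Spec (CommRingCat.of k))] [Smooth (X ↘ Spec (CommRingCat.of k))]

/-- A module of degree one has at most one section in positive genus, over any field. -/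
theorem h0_le_one (hdim : topologicalKrullDim X = 1)
    (h0 : Module.finrank k (Coh.HH X (Coh.structureModule X) 0) = 1)
    (hg : 1 ≤ Curv2.genus k X) {L : X.Modules} (hL : PicF.IsInvertible L)
    (hd : Curv2.deg k X L 1 = 1) : Module.finrank k (Coh.HH X L 0) ≤ 1 := by
  obtain ⟨_, _, _, hd', _, _⟩ := CurveBC.bar_facts k X hdim h0
  haveI := quasiSeparatedSpace_of_quasiSeparated (X ↘ Spec (CommRingCat.of k))
  haveI := QuasiCompact.compactSpace_of_compactSpace (X ↘ Spec (CommRingCat.of k))
  have hpb := CurveBC.isPullback_bar k X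
  have hq := ProjUPX.isQCoh_of_isInvertible hL
  rw [← CurveBC.finrank_hh k _ _ hpb L hq 0]
  rw [← CurveBC.deg_eq k _ _ hpb L hq 1] at hd
  rw [← CurveBC.genus_eq k _ _ hpb] at hg
  exact CurveFF.h0_le_one_of_deg_one (AlgebraicClosure k) hd' hg (PicClLib.isInvertible_pullback _ hL) hd

/-- The ideal of a rational point has degree `-1`. -/
theorem section_facts [IsIntegral X] (hdim : topologicalKrullDim X = 1) (s : Spec (CommRingCat.of k) ⟶ X)
    (hs : s ≫ X ↘ Spec (CommRingCat.of k) = 𝟙 _) :
    BlowUp.IsEffCartierIdeal s.ker ∧ Curv2.deg k X (ClSub.idealMod s.ker) 1 = -1 ∧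
      ∃ y : X, y ∉ Set.range s := by
  haveI := CurveCohLib.isNoetherian_of_proper (k := k) (X := X)
  obtain ⟨hx, hker, hres⟩ := CurveEmbed.section_point (k := k) s hs
  have hn := (Neron6.isNormalScheme_of_smooth (X ↘ Spec (CommRingCat.of k)) FrobTwist.isNormalScheme_Spec
    (s (IsLocalRing.closedPoint k))).2
  refine ⟨hker ▸ CurveEmbed.isEffCartier_point k hdim hx hn, ?_, genericPoint X, ?_⟩
  · rw [hker]
    refine (CurveEmbed.deg_point k hx).trans ?_
    have h1 : Module.finrank k (X.residueField (s (IsLocalRing.closedPoint k))) = 1 := by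
      refine (LinearEquiv.finrank_eq (LinearEquiv.ofBijective (Algebra.linearMap k
        (X.residueField (s (IsLocalRing.closedPoint k)))) ⟨(algebraMap k _).injective, hres⟩)).symm.trans ?_
      exact Module.finrank_self k
    rw [h1]; rfl
  · rintro ⟨a, ha⟩
    haveI : Subsingleton (Spec (CommRingCat.of k)) := inferInstanceAs (Subsingleton (PrimeSpectrum k))
    rw [Subsingleton.elim a (IsLocalRing.closedPoint k)] at ha
    exact CurveEmbed.genericPoint_not_closed hdim (ha ▸ hx)

/-- A nonzero section of a module with at most one section is an isomorphism on global sections. -/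
theorem bijective_app_top [IsIntegral X] (h0 : Module.finrank k (Coh.HH X (Coh.structureModule X) 0) = 1)
    {L : X.Modules} (hL : PicF.IsInvertible L) (τ : Coh.structureModule X ⟶ L) (hτ : τ ≠ 0)
    (h1 : Module.finrank k (Coh.HH X L 0) ≤ 1) : Function.Bijective (τ.app ⊤) := by
  haveI := CurveCohLib.isNoetherian_of_proper (k := k) (X := X)
  haveI := CurveCohLib.finite_HH (k := k) (CurveDeg.isCoh_of_isInvertible hL) 0
  haveI := CurveCohLib.finite_HH (k := k) (CurveDeg.isCoh_of_isInvertible (CurveDeg.isInvertible_structureModule (X := X))) 0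
  haveI : Mono τ := UnitMono.mono_of_ne_zero
    (H23.DblAlg.isFinLocFree_of_rank (InvEnd.isFinLocFreeOfRank_one hL)) τ hτ
  have hinj : Function.Injective (PnCoh.Finite.mapLin k τ 0) := fun s t h => by
    apply (Sheaf.H.equiv₀ (Coh.toAb (Coh.structureModule X)) isTerminalTop).injective
    refine QCoh.app_injective τ ⊤ ?_
    exact ((Sheaf.H.equiv₀_naturality isTerminalTop ((QCoh.toAbFunctor X).map τ) s).trans
      (congrArg (Sheaf.H.equiv₀ (Coh.toAb L) isTerminalTop) h)).trans
      (Sheaf.H.equiv₀_naturality isTerminalTop ((QCoh.toAbFunctor X).map τ) t).symm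
  have hsurj : Function.Surjective (PnCoh.Finite.mapLin k τ 0) :=
    (LinearMap.injective_iff_surjective_of_finrank_eq_finrank (le_antisymm
      (LinearMap.finrank_le_finrank_of_injective hinj) (h1.trans h0.ge))).1 hinj
  refine ⟨QCoh.app_injective τ ⊤, fun z => ?_⟩
  obtain ⟨t, ht⟩ := hsurj ((Sheaf.H.equiv₀ (Coh.toAb L) isTerminalTop).symm z)
  refine ⟨Sheaf.H.equiv₀ (Coh.toAb (Coh.structureModule X)) isTerminalTop t, ?_⟩
  exact (Sheaf.H.equiv₀_naturality isTerminalTop ((QCoh.toAbFunctor X).map τ) t).trans
    ((congrArg (Sheaf.H.equiv₀ (Coh.toAb L) isTerminalTop) ht).trans (AddEquiv.apply_symm_apply _ _))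

end Field

/-- Over a field, a map which is bijective on global sections pushes to an isomorphism. -/
theorem isIso_push_of_bijective {K : Type u} [Field K] {X : Scheme.{u}} (p : X ⟶ Spec (CommRingCat.of K))
    {M N : X.Modules} (τ : M ⟶ N) (h : Function.Bijective (τ.app ⊤)) :
    IsIso ((Scheme.Modules.pushforward p).map τ) := by
  rw [Scheme.Modules.Hom.isIso_iff_isIso_app]
  intro U
  refine (ConcreteCategory.isIso_iff_bijective _).2 ?_
  show Function.Bijective (τ.app (p ⁻¹ᵁ U))
  haveI : Subsingleton (Spec (CommRingCat.of K)) := inferInstanceAs (Subsingleton (PrimeSpectrum K))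
  by_cases hU : (U : Set (Spec (CommRingCat.of K))).Nonempty
  · obtain ⟨w, hw⟩ := hU
    rw [show U = ⊤ from top_le_iff.1 fun z _ => (Subsingleton.elim w z) ▸ hw]
    exact h
  · have hb : p ⁻¹ᵁ U = ⊥ := Opens.ext (Set.eq_empty_iff_forall_notMem.2 fun z hz => hU ⟨p z, hz⟩)
    have hs : ∀ P : X.Modules, Subsingleton Γ(P, p ⁻¹ᵁ U) := fun P => ⟨fun a b =>
      TopCat.Sheaf.eq_of_locally_eq' (⟨P.presheaf, P.isSheaf⟩ : TopCat.Sheaf Ab X) (fun e : PEmpty.{u+1} => e.elim)
        (p ⁻¹ᵁ U) (fun e => e.elim) (by rw [hb]; exact bot_le) a b fun e => e.elim⟩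
    haveI := hs M
    haveI := hs N
    exact ⟨fun a b _ => Subsingleton.elim a b, fun b => ⟨0, Subsingleton.elim _ _⟩⟩

section Family

variable {C S : Scheme.{u}} (f : C ⟶ S)

/-- The section of the fibre. -/
def fibreSection (x : S ⟶ C) (hx : x ≫ f = 𝟙 S) (s : S) : Spec (CommRingCat.of (S.residueField s)) ⟶ f.fiber s :=
  pullback.lift (S.fromSpecResidueField s ≫ x) (𝟙 _) (by rw [Category.assoc, hx, Category.comp_id, Category.id_comp])

theorem fibreSection_comp (x : S ⟶ C) (hx : x ≫ f = 𝟙 S) (s : S) :
    fibreSection f x hx s ≫ f.fiberToSpecResidueField s = 𝟙 _ :=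
  pullback.lift_snd _ _ _

theorem isPullback_fibreSection (x : S ⟶ C) (hx : x ≫ f = 𝟙 S) (s : S) :
    IsPullback (S.fromSpecResidueField s) (fibreSection f x hx s) x (f.fiberι s) := by
  refine IsPullback.of_bot ?_ (pullback.lift_fst _ _ _).symm (IsPullback.of_hasPullback f (S.fromSpecResidueField s))
  rw [show fibreSection f x hx s ≫ pullback.snd f (S.fromSpecResidueField s) = 𝟙 _ from pullback.lift_snd _ _ _, hx]
  exact IsPullback.of_vert_isIso ⟨(Category.comp_id _).trans (Category.id_comp _).symm⟩

end Family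

end Groth.Agent.DegOneSection
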