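import Groth.Agent.DegOneSection.Fibre
import Groth.Agent.PicTangent.JacDeg
import Groth.Agent.SeesawX.Open
import Groth.Agent.H23.PicMul
import Groth.Agent.Lib.CurveCanonical

/-!
# The module of a section of a family of curves of positive genus

The direct image is invertible, generated by the canonical section, and determines the section.
-/

noncomputable section

set_option autoImplicit false
set_option linter.style.haveILetI false
set_option linter.unusedSectionVars false
set_option backward.isDefEq.respectTransparency false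
set_option backward.isDefEq.respectTransparency.types false
set_option maxHeartbeats 1000000
set_option synthInstance.maxHeartbeats 400000

universe u

open CategoryTheory CategoryTheory.Limits AlgebraicGeometry TopologicalSpace Opposite
open scoped Groth.Agent.H23.PicMul

namespace Groth.Agent.DegOneSection

open Groth.Agent

attribute [local instance] Groth.Agent.H23.PicMul.clMonoid

variable {C S : Scheme.{u}} (f : C ⟶ S) [IsProper f] [Smooth f] [GeometricallyConnected f]
  (hdim : ∀ s : S, topologicalKrullDim ↥(f.fiber s) = 1)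
  (hg : ∀ s : S, 1 ≤ CohIII.fiberRank f (Coh.structureModule C) 1 s)
  (x : S ⟶ C) (hx : x ≫ f = 𝟙 S) {L : C.Modules} (hL : PicF.IsInvertible L)
  (φ : CohB1.tensorMod L (ClSub.idealMod x.ker) ≅ Coh.structureModule C)

/-- The canonical section. -/
def canonical : Coh.structureModule C ⟶ L :=
  φ.inv ≫ (DCoh.tensorBi.obj L).map (ClSub.idealModι x.ker) ≫ (KFlatLib.tensorUnitIso L).hom

/-- The canonical section restricted to a fibre. -/
def fibreMap (s : S) : Coh.structureModule (f.fiber s) ⟶ (Scheme.Modules.pullback (f.fiberι s)).obj L :=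
  (SeesawX.unitIso (f.fiberι s)).inv ≫ (Scheme.Modules.pullback (f.fiberι s)).map (canonical x φ)

include hdim hg hx hL in
/-- On the fibres the canonical section gives all the sections. -/
theorem isIso_push_fibreMap (s : S) :
    IsIso ((Scheme.Modules.pushforward (f.fiberToSpecResidueField s)).map (fibreMap f x φ s)) := by
  let p := f.fiberToSpecResidueField s
  letI : (f.fiber s).Over (Spec (S.residueField s)) := ⟨p⟩
  haveI : IsProper p := MorphismProperty.pullback_snd _ _ inferInstance
  haveI : Smooth p := MorphismProperty.pullback_snd _ _ inferInstance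
  haveI : IsProper ((f.fiber s) ↘ Spec (CommRingCat.of ↥(S.residueField s))) := ‹IsProper p›
  haveI : Smooth ((f.fiber s) ↘ Spec (CommRingCat.of ↥(S.residueField s))) := ‹Smooth p›
  haveI : GeometricallyConnected ((f.fiber s) ↘ Spec (CommRingCat.of ↥(S.residueField s))) :=
    (inferInstance : GeometricallyConnected p)
  have h0 := CurveBC.finrank_h0_of_geometricallyConnected ↥(S.residueField s) (f.fiber s)
  haveI := CurveBC.isIntegral_of_h0 ↥(S.residueField s) (f.fiber s) h0
  have hgen : 1 ≤ Curv2.genus ↥(S.residueField s) (f.fiber s) := by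
    refine (hg s).trans (le_of_eq ?_)
    exact (CurveCohLib.hhEquiv (k := ↥(S.residueField s)) (SeesawX.unitIso (f.fiberι s)) 1).finrank_eq
  obtain ⟨hJ, hdJ, y, hy⟩ := section_facts ↥(S.residueField s) (f.fiber s) (hdim s) (fibreSection f x hx s)
    (fibreSection_comp f x hx s)
  haveI : IsClosedImmersion x := by
    haveI : IsClosedImmersion (x ≫ f) := by rw [hx]; infer_instance
    exact IsClosedImmersion.of_comp x f
  haveI : SmoothOfRelativeDimension 1 f := PicTangent.JacDeg.smoothOfRelativeDimension_one f hdim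
  have hpb := isPullback_fibreSection f x hx s
  have hcomap : x.ker.comap (f.fiberι s) = (fibreSection f x hx s).ker := by
    rw [← Scheme.IdealSheafData.ker_fst_of_isClosedImmersion, ← hpb.flip.isoPullback_hom_fst,
      Scheme.Hom.ker_comp_of_isIso]
  obtain ⟨i⟩ := H26.InterDiv.nonempty_pullback_idealMod (f.fiberι s) x.ker
    (PicTangent.Elliptic.isEffCartier_e f x hx) (hcomap ▸ hJ)
  -- the degree
  have hL' := PicClLib.isInvertible_pullback (f.fiberι s) hL
  have hI' : PicF.IsInvertible (ClSub.idealMod (fibreSection f x hx s).ker) := H26.IdealCl.isInvertible_idealMod hJ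
  have hdeg : Curv2.deg ↥(S.residueField s) (f.fiber s) ((Scheme.Modules.pullback (f.fiberι s)).obj L) 1 = 1 := by
    obtain ⟨p'⟩ := H23.PicMul.pull (f.fiberι s) L (ClSub.idealMod x.ker)
    rw [hcomap] at i
    let e : CohB1.tensorMod ((Scheme.Modules.pullback (f.fiberι s)).obj L)
        (ClSub.idealMod (fibreSection f x hx s).ker) ≅ Coh.structureModule (f.fiber s) :=
      PicGrp.tensorModIso (Iso.refl _) i.symm ≪≫ p'.symm ≪≫ (Scheme.Modules.pullback (f.fiberι s)).mapIso φ ≪≫
        SeesawX.unitIso (f.fiberι s)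
    have h1 := CurveRR.deg_tensor ↥(S.residueField s) (hdim s) hL' hI'
    have h2 : Curv2.deg ↥(S.residueField s) (f.fiber s) (CohB1.tensorMod ((Scheme.Modules.pullback (f.fiberι s)).obj L)
        (ClSub.idealMod (fibreSection f x hx s).ker)) 1 = 0 :=
      (CurveRR.deg_congr ↥(S.residueField s) e 1).trans (CurveDeg.deg_structureModule _)
    change Curv2.deg _ _ (CohB1.tensorMod _ _) 1 = _ at h1
    rw [h2, hdJ] at h1
    omega
  -- the section does not vanish on the fibre
  let z : Γ(L, ⊤) := (canonical x φ).app ⊤ (H23.Frame.one ⊤)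
  have hyx : f.fiberι s y ∉ Set.range x := fun ⟨a, ha⟩ => by
    apply hy
    have hfy : f (f.fiberι s y) = s := by
      have : f.fiberι s y ∈ Set.range (f.fiberι s) := ⟨y, rfl⟩
      rwa [Scheme.Hom.range_fiberι] at this
    have hxa : f (x a) = a := by rw [← Scheme.Hom.comp_apply, hx]; rfl
    have has : a = s := by rw [← hxa, ha, hfy]
    refine ⟨IsLocalRing.closedPoint (S.residueField s), (f.fiberι s).injective ?_⟩
    rw [← Scheme.Hom.comp_apply, show fibreSection f x hx s ≫ f.fiberι s = S.fromSpecResidueField s ≫ x from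
      pullback.lift_fst _ _ _, Scheme.Hom.comp_apply]
    exact ((congrArg x (Scheme.fromSpecResidueField_apply s _)).trans (by rw [← has])).trans ha
  have hloc : f.fiberι s y ∈ H23.TrivBasic.locus z := by
    refine CurveCover.mem_locus_of_isIso_stalk hL (canonical x φ) ?_
    haveI : IsIso ((DerSch.stalkFunctor C (f.fiberι s y)).map
        ((DCoh.tensorBi.obj L).map (ClSub.idealModι x.ker))) :=
      CurveCover.isIso_tensor_idealModι _ L (fun h => hyx (by
        rw [Scheme.Hom.support_ker] at h
        rwa [show closure (Set.range x) = Set.range x from x.isClosedEmbedding.isClosed_range.closure_eq] at h))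
    unfold canonical
    rw [Functor.map_comp, Functor.map_comp]
    infer_instance
  have hne : fibreMap f x φ s ≠ 0 := by
    intro h
    have h' : (Scheme.Modules.pullback (f.fiberι s)).map (canonical x φ) = 0 :=
      (cancel_epi (SeesawX.unitIso (f.fiberι s)).inv).1 (h.trans comp_zero.symm)
    have hz0 : InvX.pullElt (f.fiberι s) z = 0 := by
      rw [← H26.InterDiv.map_pullElt, h']
      rfl
    have hmem : y ∈ H23.TrivBasic.locus
        (show Γ((Scheme.Modules.pullback (f.fiberι s)).obj L, ⊤) from InvX.pullElt (f.fiberι s) z) := by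
      rw [H23.TrivBasic.locus_pullElt hL]
      exact hloc
    obtain ⟨U, hU, hfr⟩ := H23.TrivBasic.mem_locus_iff.1 hmem
    haveI : Nonempty U := ⟨⟨_, hU⟩⟩
    have h00 : AModX.res ((Scheme.Modules.pullback (f.fiberι s)).obj L) (le_top : U ≤ ⊤)
        (show Γ((Scheme.Modules.pullback (f.fiberι s)).obj L, ⊤) from InvX.pullElt (f.fiberι s) z) = 0 := by
      rw [show (show Γ((Scheme.Modules.pullback (f.fiberι s)).obj L, ⊤) from InvX.pullElt (f.fiberι s) z) = 0
        from hz0, map_zero]
    exact one_ne_zero ((hfr U le_rfl).1 (a₁ := (1 : Γ(f.fiber s, U))) (a₂ := 0) (by simp [h00]))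
  exact isIso_push_of_bijective _ _ (bijective_app_top ↥(S.residueField s) (f.fiber s) h0 hL' _ hne
    (h0_le_one ↥(S.residueField s) (f.fiber s) (hdim s) h0 hgen hL' hdeg))

/-- The comparison from the base. -/
def fromBase : Coh.structureModule S ⟶ (Scheme.Modules.pushforward f).obj L :=
  (show Coh.structureModule S ⟶ (Scheme.Modules.pushforward f).obj (Coh.structureModule C) from
    SheafOfModules.unitToPushforwardObjUnit f.toRingCatSheafHom) ≫
    (Scheme.Modules.pushforward f).map (canonical x φ)

include hdim hg hx hL in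
/-- The direct image is free on the canonical section. -/
theorem isIso_fromBase : IsIso (fromBase f x φ) ∧ PicF.IsInvertible ((Scheme.Modules.pushforward f).obj L) := by
  haveI : Flat f := inferInstance
  haveI : HasInjectiveResolutions C.Modules := KFlatLib.hasInjectiveResolutions_modules
  haveI := SpObjSS.enoughInjectives_of_hasInjectiveResolutions (C := C.Modules)
  haveI := QCoh.preservesFiniteLimits_push f
  haveI := H23.RigidGamma.geometricallyReduced_of_smooth f
  have hc := H23.RigidGamma.constFibres f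
  have hL1 := SeesawX.isFinLocFreeOfRank_one hL
  have hlf : FlatMod.IsFinLocFree L := fun y => (hL1 y).elim fun U h => ⟨U, 1, h⟩
  have hfp := QCoh.isFP_of_isFinLocFree hlf
  have hfl : FlatMod.IsFlatOver f L := H23.Seesaw.isFlatOver_of_isInvertible f hL
  have hq := QCoh.isQCoh_of_isFP hfp
  let u₀ : Coh.structureModule S ⟶ (Scheme.Modules.pushforward f).obj (Coh.structureModule C) :=
    SheafOfModules.unitToPushforwardObjUnit f.toRingCatSheafHom
  have hp := fun y => SeesawX.bijective_fibre_app f y (hc y)
  have hv : ∀ y : S, IsIso ((Scheme.Modules.pullback (S.fromSpecResidueField y)).map (fromBase f x φ) ≫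
      CohBC.bc0 f (S.fromSpecResidueField y) (f.fiberToSpecResidueField y) (f.fiberι y) (f.fiber_fac y) L) := by
    intro y
    let g := f.fiberι y
    let fT := f.fiberToSpecResidueField y
    let v := S.fromSpecResidueField y
    haveI := isIso_push_fibreMap f hdim hg x hx hL φ y
    have key := SeesawX.unit_pullback_bc0 f v fT g (f.fiber_fac y) (hp y)
    have hnat := SeesawX.bc0_naturality (f.fiber_fac y) (canonical x φ)
    have h1 : (Scheme.Modules.pullback v).map u₀ ≫ CohBC.bc0 f v fT g (f.fiber_fac y) (Coh.structureModule C) =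
        (SeesawX.unitIso v).hom ≫ (H23.PullPush.structureModuleIsoPush fT (hp y)).hom ≫
          (Scheme.Modules.pushforward fT).map (SeesawX.unitIso g).inv := by
      rw [Iso.inv_comp_eq] at key
      rw [← reassoc_of% key, ← Functor.map_comp, Iso.hom_inv_id, CategoryTheory.Functor.map_id, Category.comp_id]
    have h2 : (Scheme.Modules.pullback v).map (fromBase f x φ) ≫ CohBC.bc0 f v fT g (f.fiber_fac y) L =
        (SeesawX.unitIso v).hom ≫ (H23.PullPush.structureModuleIsoPush fT (hp y)).hom ≫
          (Scheme.Modules.pushforward fT).map (fibreMap f x φ y) := by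
      show (Scheme.Modules.pullback v).map (u₀ ≫ (Scheme.Modules.pushforward f).map (canonical x φ)) ≫ _ = _
      rw [Functor.map_comp, Category.assoc, hnat, ← Category.assoc, h1]
      simp only [Category.assoc, fibreMap, Functor.map_comp]
      rfl
    rw [h2]
    infer_instance
  have hepi : ∀ y : S, Epi (CohBC.bc0 f (S.fromSpecResidueField y) (f.fiberToSpecResidueField y) (f.fiberι y)
      (f.fiber_fac y) L) := fun y => by
    haveI := hv y
    exact epi_of_epi ((Scheme.Modules.pullback (S.fromSpecResidueField y)).map (fromBase f x φ)) _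
  choose V n hV hk e using fun y : S => CohPullX.exists_kerBC_nhd_of_epi hfp hfl y (hepi y)
  let G := (Scheme.Modules.pushforward f).obj L
  let i : (Coh.Rpush f 0).obj L ≅ G := (Scheme.Modules.pushforward f).rightDerivedZeroIsoSelf.app _
  have hb : ∀ y, IsIso (CohBC.bc0 f (S.fromSpecResidueField y) (f.fiberToSpecResidueField y) (f.fiberι y)
      (f.fiber_fac y) L) := fun y =>
    CohPullX.isIso_bc0_of_hasKerBC (IsPullback.of_hasPullback f (S.fromSpecResidueField y)) hq
      fun t => ⟨V y, by rw [Scheme.fromSpecResidueField_apply]; exact hV y, hk y⟩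
  have hpu : ∀ y : S, IsIso ((Scheme.Modules.pullback (S.fromSpecResidueField y)).map (fromBase f x φ)) :=
    fun y => by
      haveI := hv y
      haveI := hb y
      exact IsIso.of_isIso_comp_right _
        (CohBC.bc0 f (S.fromSpecResidueField y) (f.fiberToSpecResidueField y) (f.fiberι y) (f.fiber_fac y) L)
  have hn : ∀ y, n y = 1 := fun y => by
    let t : Spec (S.residueField y) ⟶ (V y : Scheme.{u}) := IsOpenImmersion.lift (V y).ι (S.fromSpecResidueField y) (by
      rw [Scheme.range_fromSpecResidueField, Scheme.Opens.range_ι]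
      exact Set.singleton_subset_iff.2 (hV y))
    have h1 : FlatMod.IsFinLocFreeOfRank (n y) ((Scheme.Modules.pullback (S.fromSpecResidueField y)).obj G) :=
      (ConsPropLib.isFinLocFreeOfRank_iso ((Scheme.Modules.pullbackComp t (V y).ι).app G ≪≫
        (Scheme.Modules.pullbackCongr (IsOpenImmersion.lift_fac _ _ _)).app G)).1 (TFOneX.isFinLocFreeOfRank_pullback t
          ((ConsPropLib.isFinLocFreeOfRank_iso ((Scheme.Modules.restrictFunctorIsoPullback (V y).ι).app G)).1
            fun z => ⟨⊤, trivial, ⟨(Scheme.Modules.restrictFunctor (⊤ : (V y : Scheme.{u}).Opens).ι).mapIso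
              ((Scheme.Modules.restrictFunctor (V y).ι).mapIso i.symm ≪≫ (e y).some) ≪≫ QCoh.freeModRestrict _ _⟩⟩))
    haveI := hpu y
    have h2 : FlatMod.IsFinLocFreeOfRank 1 ((Scheme.Modules.pullback (S.fromSpecResidueField y)).obj G) :=
      (ConsPropLib.isFinLocFreeOfRank_iso ((SeesawX.unitIso (S.fromSpecResidueField y)).symm ≪≫
        asIso ((Scheme.Modules.pullback (S.fromSpecResidueField y)).map (fromBase f x φ)))).1
        (SeesawX.isFinLocFreeOfRank_one InvX.isInvertible_structureModule)
    let pt : ↥(Spec (S.residueField y)) := IsLocalRing.closedPoint (S.residueField y)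
    exact ((ConsPropLib.isFinLocFreeOfRank_iff.1 h1).2 pt).symm.trans ((ConsPropLib.isFinLocFreeOfRank_iff.1 h2).2 pt)
  have hG1 : FlatMod.IsFinLocFreeOfRank 1 G := fun y => ⟨V y, hV y,
    ⟨(Scheme.Modules.restrictFunctor (V y).ι).mapIso i.symm ≪≫ (e y).some ≪≫ eqToIso (by rw [hn y])⟩⟩
  have hO1 : FlatMod.IsFinLocFreeOfRank 1 (Coh.structureModule S) :=
    SeesawX.isFinLocFreeOfRank_one InvX.isInvertible_structureModule
  refine ⟨?_, SeesawX.isInvertible_of_rank_one hG1⟩
  let u := fromBase f x φ
  have hOfp := QCoh.isFP_of_isFinLocFree (M := Coh.structureModule S) fun y => (hO1 y).elim fun U h => ⟨U, 1, h⟩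
  have hGfp := QCoh.isFP_of_isFinLocFree (M := G) fun y => (hG1 y).elim fun U h => ⟨U, 1, h⟩
  have hC : Coh.IsQCoh (cokernel u) := QCoh.isQCoh_cokernel (QCoh.isQCoh_of_isFP hOfp) (QCoh.isQCoh_of_isFP hGfp) u
  have hCft : CohB1.IsFT (cokernel u) := RelPC17.isFT_of_epi' (cokernel.π u) (QCoh.isFT_of_isFP hGfp)
  haveI : Epi u := by
    refine Abelian.epi_of_cokernel_π_eq_zero _ (IsZero.eq_of_tgt (SeesawX.isZero_of_fibres hC hCft fun y => ?_) _ _)
    haveI := hpu y
    exact IsZero.of_iso (isZero_cokernel_of_epi _) (PreservesCokernel.iso (Scheme.Modules.pullback (S.fromSpecResidueField y)) u)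
  exact SeesawX.isIso_of_epi_rank hO1 hG1 u

include hdim hg hx hL φ in
/-- The module determines the section. -/
theorem section_unique (x' : S ⟶ C) (hx' : x' ≫ f = 𝟙 S)
    (h' : Nonempty (CohB1.tensorMod L (ClSub.idealMod x'.ker) ≅ Coh.structureModule C)) : x' = x := by
  obtain ⟨φ'⟩ := h'
  haveI : IsClosedImmersion x := by
    haveI : IsClosedImmersion (x ≫ f) := by rw [hx]; infer_instance
    exact IsClosedImmersion.of_comp x f
  haveI : IsClosedImmersion x' := by
    haveI : IsClosedImmersion (x' ≫ f) := by rw [hx']; infer_instance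
    exact IsClosedImmersion.of_comp x' f
  have hcl : PicF.cl (ClSub.idealMod x.ker) = PicF.cl (ClSub.idealMod x'.ker) := by
    have e1 : PicF.cl L * PicF.cl (ClSub.idealMod x.ker) = 1 := by
      rw [← H23.PicMul.cl_tensor, H23.PicMul.one_def]; exact H23.PicMul.cl_eq_iff.2 ⟨φ⟩
    have e2 : PicF.cl L * PicF.cl (ClSub.idealMod x'.ker) = 1 := by
      rw [← H23.PicMul.cl_tensor, H23.PicMul.one_def]; exact H23.PicMul.cl_eq_iff.2 ⟨φ'⟩
    calc PicF.cl (ClSub.idealMod x.ker)
        = (PicF.cl L * PicF.cl (ClSub.idealMod x'.ker)) * PicF.cl (ClSub.idealMod x.ker) := by rw [e2, one_mul]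
      _ = (PicF.cl L * PicF.cl (ClSub.idealMod x.ker)) * PicF.cl (ClSub.idealMod x'.ker) := by
          rw [mul_assoc, mul_assoc, mul_comm (PicF.cl (ClSub.idealMod x'.ker))]
      _ = PicF.cl (ClSub.idealMod x'.ker) := by rw [e1, one_mul]
  obtain ⟨ψ⟩ := H23.PicMul.cl_eq_iff.1 hcl
  let h : ClSub.idealMod x.ker ⟶ Coh.structureModule C := ψ.hom ≫ ClSub.idealModι x'.ker
  -- every map from the ideal to the functions factors through the inclusion
  obtain ⟨n, hn⟩ : ∃ n : ClSub.idealMod x.ker ⟶ ClSub.idealMod x.ker, n ≫ ClSub.idealModι x.ker = h := by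
    haveI : (DCoh.tensorBi.obj L).IsEquivalence := (CurveHiggs.twistEquiv φ).isEquivalence_functor
    let σ := φ.inv ≫ (DCoh.tensorBi.obj L).map h ≫ (KFlatLib.tensorUnitIso L).hom
    obtain ⟨hiso, -⟩ := isIso_fromBase f hdim hg x hx hL φ
    haveI := hiso
    obtain ⟨c, hc⟩ := ((ConcreteCategory.isIso_iff_bijective _).1
      (Scheme.Modules.Hom.isIso_iff_isIso_app.1 hiso (⊤ : S.Opens))).2
        (show Γ((Scheme.Modules.pushforward f).obj L, ⊤) from σ.app ⊤ (H23.Frame.one ⊤))
    let a : Γ(Coh.structureModule C, ⊤) := f.app ⊤ (show Γ(S, ⊤) from c)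
    let m : Coh.structureModule C ⟶ Coh.structureModule C := QCoh.homOfTop a
    have hm : m ≫ canonical x φ = σ := by
      refine CurveRR.hom_ext_one ?_
      show (canonical x φ).app ⊤ (m.app ⊤ (1 : Γ(C, ⊤))) = σ.app ⊤ (H23.Frame.one ⊤)
      rw [show m.app ⊤ (1 : Γ(C, ⊤)) = a from ((QCoh.homOfTop_app (P := Coh.structureModule C) a (1 : Γ(C, ⊤))).trans
        (one_smul _ _)).trans (ConcreteCategory.congr_hom
          ((Coh.structureModule C).presheaf.map_id (op ⊤)) a)]
      exact hc
    have hfac : (DCoh.tensorBi.obj L).map h =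
        (φ.hom ≫ m ≫ φ.inv) ≫ (DCoh.tensorBi.obj L).map (ClSub.idealModι x.ker) := by
      have h1 : φ.inv ≫ (DCoh.tensorBi.obj L).map h ≫ (KFlatLib.tensorUnitIso L).hom =
          m ≫ φ.inv ≫ (DCoh.tensorBi.obj L).map (ClSub.idealModι x.ker) ≫ (KFlatLib.tensorUnitIso L).hom :=
        hm.symm
      rw [Iso.inv_comp_eq] at h1
      rw [← cancel_mono (KFlatLib.tensorUnitIso L).hom]
      simpa only [Category.assoc] using h1
    obtain ⟨n, hn⟩ := (DCoh.tensorBi.obj L).map_surjective (X := ClSub.idealMod x.ker) (Y := ClSub.idealMod x.ker)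
      (φ.hom ≫ m ≫ φ.inv)
    refine ⟨n, (DCoh.tensorBi.obj L).map_injective ?_⟩
    rw [Functor.map_comp, hn, hfac]
  have hle : x'.ker ≤ x.ker := fun U g hg' => by
    obtain ⟨k', hk'⟩ := OmegaLib.exists_of_mem x'.ker U g hg'
    have hsect : OmegaSh.idealSect x.ker U.1 (n.app U.1 (ψ.inv.app U.1 k')) = g := by
      rw [← hk', OmegaSh.idealSect_apply, OmegaSh.idealSect_apply]
      congr 1
      show (n ≫ ClSub.idealModι x.ker).app U.1 (ψ.inv.app U.1 k') = _
      rw [hn]
      show (ψ.inv ≫ ψ.hom ≫ ClSub.idealModι x'.ker).app U.1 k' = _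
      rw [Iso.inv_hom_id_assoc]
    exact hsect ▸ OmegaLib.idealSect_mem x.ker U _
  let q := IsClosedImmersion.lift x' x hle
  have hq : q ≫ x' = x := IsClosedImmersion.lift_fac _ _ _
  have hq1 : q = 𝟙 S := by
    have := congrArg (· ≫ f) hq
    simp only [Category.assoc, hx', hx, Category.comp_id] at this
    exact this
  rw [← hq, hq1, Category.id_comp]

end Groth.Agent.DegOneSection
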